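import Groth.Agent.H52.FibProd
import Groth.Agent.H52.Charts
import Groth.Agent.H50.Basic

/-!
# helper52: etale surjective charts of base changes of `X ×_Y h_V`
-/

universe u

open CategoryTheory CategoryTheory.Limits AlgebraicGeometry Opposite AlgSp

namespace Groth.Agent.H52.GR

variable {S : Scheme.{u}}

/-- Let `p : h_U ⟶ X ×_Y h_V` be an etale surjective chart with `g : U ⟶ V` the induced morphism of schemes.
For `c : T ⟶ V` and any fibre product `X_T = X ×_Y h_T`, the scheme `U ×_V T` is an etale surjective chart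
of `X_T`. -/
theorem exists_chart_baseChange {X Y : Sp S} (f : X ⟶ Y) {V U : Over S} (a : (yon S).obj V ⟶ Y)
    {XV : Sp S} {π₁ : XV ⟶ X} {π₂ : XV ⟶ (yon S).obj V} (sqA : IsPullback π₁ π₂ f a)
    (p : (yon S).obj U ⟶ XV) (hpe : RepWith @Etale p) (hps : RepWith @Surjective p)
    (g : U ⟶ V) (hg : (yon S).map g = p ≫ π₂)
    {T : Over S} (c : T ⟶ V) {XT : Sp S} {a' : XT ⟶ X} {b' : XT ⟶ (yon S).obj T}
    (sqB : IsPullback a' b' f ((yon S).map c ≫ a))
    {UT : Over S} (d₁ : UT ⟶ U) (d₂ : UT ⟶ T) (sqD : IsPullback d₁ d₂ g c) :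
    ∃ r : (yon S).obj UT ⟶ XT, RepWith @Etale r ∧ RepWith @Surjective r := by
  have hq0 : a' ≫ f = (b' ≫ (yon S).map c) ≫ a := by rw [Category.assoc]; exact sqB.w
  obtain ⟨q, hq1, hq2⟩ : ∃ q : XT ⟶ XV, q ≫ π₁ = a' ∧ q ≫ π₂ = b' ≫ (yon S).map c :=
    ⟨sqA.lift _ _ hq0, sqA.lift_fst _ _ _, sqA.lift_snd _ _ _⟩
  have sqC : IsPullback q b' π₂ ((yon S).map c) := by
    refine IsPullback.of_right ?_ hq2 sqA
    rw [hq1]
    exact sqB
  have sqD' : IsPullback ((yon S).map d₁) ((yon S).map d₂) ((yon S).map g) ((yon S).map c) :=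
    sqD.map (yon S)
  have hr0 : ((yon S).map d₁ ≫ p) ≫ π₂ = (yon S).map d₂ ≫ (yon S).map c := by
    rw [Category.assoc, ← hg]; exact sqD'.w
  obtain ⟨r, hr1, hr2⟩ : ∃ r : (yon S).obj UT ⟶ XT,
      r ≫ q = (yon S).map d₁ ≫ p ∧ r ≫ b' = (yon S).map d₂ :=
    ⟨sqC.lift _ _ hr0, sqC.lift_fst _ _ _, sqC.lift_snd _ _ _⟩
  have sqE : IsPullback r ((yon S).map d₁) q p := by
    refine IsPullback.of_right ?_ hr1 sqC.flip
    rw [hr2, ← hg]
    exact sqD'.flip
  exact ⟨r, Groth.Agent.H50.repWith_fst_of_isPullback sqE hpe,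
    Groth.Agent.H50.repWith_fst_of_isPullback sqE hps⟩

end Groth.Agent.H52.GR
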