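import Groth.Agent.H52.GR.Chart
import Groth.Agent.H51.Reduced

/-!
# helper52: geometric reducedness of fibres via explicit fibre products; reducedness and etale charts
-/

universe u

open CategoryTheory CategoryTheory.Limits AlgebraicGeometry Opposite AlgSp

namespace Groth.Agent.H52.GR

variable {S : Scheme.{u}}

theorem isReduced_of_iso {Z Z' : Scheme.{u}} (e : Z ≅ Z') [IsReduced Z'] : IsReduced Z :=
  isReduced_of_isOpenImmersion e.hom

/-- The fibre of `g` over `v` is geometrically reduced iff all the schemes `U ×_V Spec K`, for field extensions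
`K` of the residue field of `v`, are reduced. -/
theorem geometricallyReduced_fibre_iff {U V : Scheme.{u}} (g : U ⟶ V) (v : V) :
    GeometricallyReduced (g.fiberToSpecResidueField v) ↔
      ∀ (K : Type u) [Field K] (φ : V.residueField v →+* K),
        IsReduced (pullback g (Spec.map (CommRingCat.ofHom φ) ≫ V.fromSpecResidueField v)) := by
  have sqF : IsPullback (g.fiberι v) (g.fiberToSpecResidueField v) g (V.fromSpecResidueField v) :=
    IsPullback.of_hasPullback _ _
  constructor
  · intro h K _ φ
    have h0 : pullback.fst g (Spec.map (CommRingCat.ofHom φ) ≫ V.fromSpecResidueField v) ≫ g =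
        (pullback.snd g (Spec.map (CommRingCat.ofHom φ) ≫ V.fromSpecResidueField v) ≫
          Spec.map (CommRingCat.ofHom φ)) ≫ V.fromSpecResidueField v := by
      rw [Category.assoc]; exact pullback.condition
    obtain ⟨l, hl1, hl2⟩ : ∃ l : pullback g (Spec.map (CommRingCat.ofHom φ) ≫ V.fromSpecResidueField v) ⟶
        g.fiber v, l ≫ g.fiberι v = pullback.fst _ _ ∧
          l ≫ g.fiberToSpecResidueField v = pullback.snd _ _ ≫ Spec.map (CommRingCat.ofHom φ) :=
      ⟨sqF.lift _ _ h0, sqF.lift_fst _ _ _, sqF.lift_snd _ _ _⟩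
    have sq : IsPullback l (pullback.snd g (Spec.map (CommRingCat.ofHom φ) ≫ V.fromSpecResidueField v))
        (g.fiberToSpecResidueField v) (Spec.map (CommRingCat.ofHom φ)) := by
      refine IsPullback.of_right ?_ hl2 sqF
      rw [hl1]
      exact IsPullback.of_hasPullback _ _
    exact h.geometrically_isReduced (Spec.map (CommRingCat.ofHom φ)) l _ sq
  · intro h
    refine ⟨fun K _ y Z fst snd sqZ => ?_⟩
    obtain ⟨ψ, rfl⟩ : ∃ ψ : V.residueField v ⟶ CommRingCat.of K, Spec.map ψ = y :=
      ⟨Spec.preimage y, Spec.map_preimage y⟩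
    have sq2 : IsPullback (fst ≫ g.fiberι v) snd g (Spec.map ψ ≫ V.fromSpecResidueField v) :=
      sqZ.paste_horiz sqF
    haveI := h K ψ.hom
    exact isReduced_of_iso sq2.isoPullback

/-- A scheme etale over a reduced algebraic space is reduced. -/
theorem isReduced_of_etale_of_reducedSp {XT : Sp S} {UT : Over S} (r : (yon S).obj UT ⟶ XT)
    (hre : RepWith @Etale r) (hred : EtaleLocally (fun U => IsReduced U) XT) : IsReduced UT.left := by
  obtain ⟨W, w, hwe, hws, hW⟩ := hred
  haveI : IsReduced W.left := hW
  have sqW := hwe.rep.isPullback' r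
  haveI h1 : Etale (hwe.rep.fst' r).left := hre.2 w ((yon S).map (hwe.rep.snd r)) _ sqW.flip
  haveI h2 : Etale (hwe.rep.snd r).left := hwe.property_snd r
  haveI h3 : Surjective (hwe.rep.snd r).left := hws.2 r _ _ sqW
  haveI : IsReduced (hwe.rep.pullback r).left :=
    Groth.Agent.H51.isReduced_of_smooth (hwe.rep.fst' r).left
  exact Groth.Agent.H51.isReduced_of_flat_of_surjective (hwe.rep.snd r).left

end Groth.Agent.H52.GR
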